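import Mathlib
import Cfsg.Prelude.Def_RootSubgroups
import Cfsg.Agent.Lib.Perm.RankOne
import Cfsg.Agent.Lib.Perm.SL2Unipotent
import Cfsg.Agent.Lib.Perm.RootLine

/-! Root subgroups given by square zero elements of an algebra: `A = {1 + c X}`. -/

set_option autoImplicit false
set_option linter.style.haveILetI false

namespace CfsgLib.Perm.RootModel

open Cfsg CfsgLib.Perm CfsgLib.Perm.RankOne
open scoped commutatorElement

variable {L : Type*} [Field L] {R : Type*} [Ring R] [Algebra L R] {G : Type*} [Group G]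

/-- `A` is the group of the elements `1 + c X`. -/
structure Root (L : Type*) [Field L] {R : Type*} [Ring R] [Algebra L R] {G : Type*} [Group G]
    (ι : G →* R) (X : R) (A : Subgroup G) : Prop where
  sq : X * X = 0
  exists_elt : ∀ c : L, ∃ g ∈ A, ι g = 1 + c • X
  exists_coef : ∀ g ∈ A, ∃ c : L, ι g = 1 + c • X

variable {ι : G →* R} {X Y : R} {A B : Subgroup G}

omit [Group G] in
theorem mul_units {X Y : R} (hXY : X * Y = Y * X) (c d : L) :
    (1 + c • X) * (1 + d • Y) = (1 + d • Y) * (1 + c • X) := by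
  simp only [mul_add, add_mul, one_mul, mul_one, smul_mul_assoc, mul_smul_comm, smul_add, hXY]
  module

theorem pair_map {H : Type*} [Group H] {f : G →* H} (hf : Function.Injective f)
    (h : IsRankOnePair A B) : IsRankOnePair (A.map f) (B.map f) := by
  have hcond : ∀ {P Q : Subgroup G}, RankOneCondition P Q → RankOneCondition (P.map f) (Q.map f) := by
    rintro P Q hc _ ⟨p, hp, rfl⟩ hp1
    obtain ⟨q, hq, hq1, he⟩ := hc p hp (fun e => hp1 (by rw [e, map_one]))
    refine ⟨f q, ⟨q, hq, rfl⟩, fun e => hq1 (hf (by rw [e, map_one])), ?_⟩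
    rw [← map_inv, ← map_inv, ← RootLine.map_conjBy, ← RootLine.map_conjBy, he]
  exact
    { ne := fun e => h.ne (Subgroup.map_injective hf e)
      nilpotent_left := by
        haveI := h.nilpotent_left
        exact Group.nilpotent_of_mulEquiv (A.equivMapOfInjective f hf)
      nilpotent_right := by
        haveI := h.nilpotent_right
        exact Group.nilpotent_of_mulEquiv (B.equivMapOfInjective f hf)
      cond_left := hcond h.cond_left
      cond_right := hcond h.cond_right }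

theorem not_case_of_pair {S : Set (Subgroup G)} (hS : ∀ C ∈ S, C ≠ ⊥) (hA : IsMulCommutative A)
    (h : IsRankOnePair A B) : ¬ RootCommutatorCase S A B := by
  rintro ⟨hC, hcent, -⟩
  obtain ⟨⟨a, ha⟩, ha1⟩ := right_ne_bot.exists_ne_one_of_ne_bot (left_ne_bot h)
  obtain ⟨b, hb, -, he⟩ := h.cond_left a ha fun e => ha1 (Subtype.ext e)
  let Z := Subgroup.centralizer (A : Set G)
  have hAZ : A ≤ Z := fun x hx => Subgroup.mem_centralizer_iff.2 fun y hy => by
    simpa using congrArg Subtype.val (hA.is_comm.comm ⟨y, hy⟩ ⟨x, hx⟩)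
  have hCZ : ⁅A, B⁆ ≤ Z := fun c hc => Subgroup.mem_centralizer_iff.2 fun y hy =>
    (hcent c hc y (Subgroup.mem_sup_left hy)).symm
  have h1 : conjBy A b⁻¹ ≤ Z := by
    intro x hx
    rw [mem_conjBy, inv_inv] at hx
    have h2 : ⁅b⁻¹, b * x * b⁻¹⁆ ∈ ⁅A, B⁆ := by
      rw [Subgroup.commutator_comm A B]
      exact Subgroup.commutator_mem_commutator (B.inv_mem hb) hx
    have : x = ⁅b⁻¹, b * x * b⁻¹⁆ * (b * x * b⁻¹) := by
      rw [commutatorElement_def]; group
    rw [this]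
    exact Z.mul_mem (hCZ h2) (hAZ hx)
  rw [he] at h1
  refine hS _ hC (RootSet.bot_of_commute fun x hx y hy => ?_)
  have h3 : a⁻¹ * y * a ∈ Z := h1 (by simpa using conjBy_conj_mem (g := a⁻¹) hy)
  have h4 := Subgroup.mem_centralizer_iff.1
    (Z.mul_mem (Z.mul_mem (hAZ ha) h3) (Z.inv_mem (hAZ ha))) x hx
  simpa [mul_assoc] using h4

namespace Root

theorem eq_of_root (hι : Function.Injective ι) (hA : Root L ι X A) (hB : Root L ι X B) : A = B := by
  apply le_antisymm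
  · intro g hg
    obtain ⟨c, hc⟩ := hA.exists_coef g hg
    obtain ⟨g', hg', hc'⟩ := hB.exists_elt c
    rwa [hι (hc.trans hc'.symm)]
  · intro g hg
    obtain ⟨c, hc⟩ := hB.exists_coef g hg
    obtain ⟨g', hg', hc'⟩ := hA.exists_elt c
    rwa [hι (hc.trans hc'.symm)]

theorem mem_iff (hι : Function.Injective ι) (hA : Root L ι X A) {g : G} :
    g ∈ A ↔ ∃ c : L, ι g = 1 + c • X := by
  refine ⟨hA.exists_coef g, fun ⟨c, hc⟩ => ?_⟩
  obtain ⟨g', hg', hc'⟩ := hA.exists_elt c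
  rwa [hι (hc.trans hc'.symm)]

theorem smul (hA : Root L ι X A) {l : L} (hl : l ≠ 0) : Root L ι (l • X) A where
  sq := by rw [smul_mul_assoc, mul_smul_comm, hA.sq, smul_zero, smul_zero]
  exists_elt c := by
    obtain ⟨g, hg, hc⟩ := hA.exists_elt (c * l)
    exact ⟨g, hg, by rw [hc, smul_smul]⟩
  exists_coef g hg := by
    obtain ⟨c, hc⟩ := hA.exists_coef g hg
    exact ⟨c * l⁻¹, by rw [hc, smul_smul, mul_assoc, inv_mul_cancel₀ hl, mul_one]⟩

theorem commutative (hι : Function.Injective ι) (hA : Root L ι X A) : IsMulCommutative A := by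
  refine ⟨⟨fun x y => Subtype.ext (hι ?_)⟩⟩
  obtain ⟨c, hc⟩ := hA.exists_coef x x.2
  obtain ⟨d, hd⟩ := hA.exists_coef y y.2
  rw [Subgroup.coe_mul, Subgroup.coe_mul, map_mul, map_mul, hc, hd, mul_units rfl]

theorem ne_bot (hA : Root L ι X A) (hX : X ≠ 0) : A ≠ ⊥ := by
  intro h
  obtain ⟨g, hg, hc⟩ := hA.exists_elt 1
  rw [h, Subgroup.mem_bot] at hg
  rw [hg, map_one, one_smul, left_eq_add] at hc
  exact hX hc

theorem commute (hι : Function.Injective ι) (hA : Root L ι X A) (hB : Root L ι Y B)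
    (h : X * Y = Y * X) : ⁅A, B⁆ = ⊥ := by
  refine RootSet.bot_of_commute fun x hx y hy => hι ?_
  obtain ⟨c, hc⟩ := hA.exists_coef x hx
  obtain ⟨d, hd⟩ := hB.exists_coef y hy
  rw [map_mul, map_mul, hc, hd, mul_units h]

theorem conj (hA : Root L ι X A) (g : G) : Root L ι (ι g * X * ι g⁻¹) (conjBy A g) := by
  have h1 : ι g⁻¹ * ι g = 1 := by rw [← map_mul, inv_mul_cancel, map_one]
  have h2 : ι g * ι g⁻¹ = 1 := by rw [← map_mul, mul_inv_cancel, map_one]
  have key : ∀ {a : G} {c : L}, ι a = 1 + c • X →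
      ι (g * a * g⁻¹) = 1 + c • (ι g * X * ι g⁻¹) := by
    intro a c h
    rw [map_mul, map_mul, h, mul_add, add_mul, mul_one, h2, mul_smul_comm, smul_mul_assoc]
  refine ⟨?_, fun c => ?_, ?_⟩
  · rw [show ι g * X * ι g⁻¹ * (ι g * X * ι g⁻¹) = ι g * X * (ι g⁻¹ * ι g) * X * ι g⁻¹ by
      simp only [mul_assoc], h1, mul_one, mul_assoc (ι g) X X, hA.sq, mul_zero, zero_mul]
  · obtain ⟨a, ha, hc⟩ := hA.exists_elt c
    exact ⟨_, conjBy_conj_mem ha, key hc⟩
  · rintro _ ⟨a, ha, rfl⟩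
    obtain ⟨c, hc⟩ := hA.exists_coef a ha
    exact ⟨c, key hc⟩

theorem commutator_val (hA : Root L ι X A) (hB : Root L ι Y B) (hXYX : X * Y * X = 0)
    (hYXY : Y * X * Y = 0) {a b : G} {c d : L} (ha : ι a = 1 + c • X) (hb : ι b = 1 + d • Y) :
    ι (a * b * a⁻¹ * b⁻¹) = 1 + (c * d) • (X * Y - Y * X) := by
  have hinv : ∀ {g : G} {c : L} {Z : R}, Z * Z = 0 → ι g = 1 + c • Z → ι g⁻¹ = 1 + (-c) • Z := by
    intro g c Z hZ hg
    refine left_inv_eq_right_inv (a := ι g) (by rw [← map_mul, inv_mul_cancel, map_one]) ?_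
    rw [hg]
    simp only [mul_add, add_mul, one_mul, mul_one, smul_mul_assoc, mul_smul_comm, hZ, smul_add,
      smul_zero, add_zero]
    module
  rw [map_mul, map_mul, map_mul, ha, hb, hinv hA.sq ha, hinv hB.sq hb]
  have e1 : X * (X * Y) = 0 := by rw [← mul_assoc, hA.sq, zero_mul]
  have e2 : X * (Y * X) = 0 := by rw [← mul_assoc, hXYX]
  have e3 : Y * (X * Y) = 0 := by rw [← mul_assoc, hYXY]
  have e4 : Y * (Y * X) = 0 := by rw [← mul_assoc, hB.sq, zero_mul]
  simp only [mul_add, add_mul, one_mul, mul_one, smul_mul_assoc, mul_smul_comm, smul_smul,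
    mul_assoc, hA.sq, hB.sq, e2, e3, mul_zero, smul_zero, add_zero, zero_add,
    smul_sub]
  module

theorem commutatorCase (hι : Function.Injective ι) (hA : Root L ι X A) (hB : Root L ι Y B)
    (hXYX : X * Y * X = 0) (hYXY : Y * X * Y = 0) {D : Subgroup G}
    (hD : Root L ι (X * Y - Y * X) D) {S : Set (Subgroup G)} (hDS : D ∈ S) :
    RootCommutatorCase S A B := by
  have hca : ∀ a ∈ A, a ≠ 1 → Subgroup.closure ((fun b : G => a * b * a⁻¹ * b⁻¹) '' (B : Set G)) = D := by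
    intro a ha ha1
    obtain ⟨c, hc⟩ := hA.exists_coef a ha
    have hc0 : c ≠ 0 := fun h => ha1 (hι (by rw [hc, h, zero_smul, add_zero, map_one]))
    apply le_antisymm
    · rw [Subgroup.closure_le]
      rintro _ ⟨b, hb, rfl⟩
      obtain ⟨d, hd⟩ := hB.exists_coef b hb
      exact (mem_iff hι hD).2 ⟨_, commutator_val hA hB hXYX hYXY hc hd⟩
    · intro x hx
      obtain ⟨e, he⟩ := hD.exists_coef x hx
      obtain ⟨b, hb, hd⟩ := hB.exists_elt (c⁻¹ * e)
      refine Subgroup.subset_closure ⟨b, hb, hι ?_⟩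
      rw [commutator_val hA hB hXYX hYXY hc hd, he, ← mul_assoc, mul_inv_cancel₀ hc0, one_mul]
  have hcb : ∀ b ∈ B, b ≠ 1 → Subgroup.closure ((fun a : G => a * b * a⁻¹ * b⁻¹) '' (A : Set G)) = D := by
    intro b hb hb1
    obtain ⟨d, hd⟩ := hB.exists_coef b hb
    have hd0 : d ≠ 0 := fun h => hb1 (hι (by rw [hd, h, zero_smul, add_zero, map_one]))
    apply le_antisymm
    · rw [Subgroup.closure_le]
      rintro _ ⟨a, ha, rfl⟩
      obtain ⟨c, hc⟩ := hA.exists_coef a ha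
      exact (mem_iff hι hD).2 ⟨_, commutator_val hA hB hXYX hYXY hc hd⟩
    · intro x hx
      obtain ⟨e, he⟩ := hD.exists_coef x hx
      obtain ⟨a, ha, hc⟩ := hA.exists_elt (e * d⁻¹)
      refine Subgroup.subset_closure ⟨a, ha, hι ?_⟩
      rw [commutator_val hA hB hXYX hYXY hc hd, he, mul_assoc, inv_mul_cancel₀ hd0, mul_one]
  have hAB : ⁅A, B⁆ = D := by
    apply le_antisymm
    · rw [Subgroup.commutator_le]
      intro a ha b hb
      obtain ⟨c, hc⟩ := hA.exists_coef a ha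
      obtain ⟨d, hd⟩ := hB.exists_coef b hb
      exact (mem_iff hι hD).2 ⟨_, commutator_val hA hB hXYX hYXY hc hd⟩
    · intro x hx
      obtain ⟨e, he⟩ := hD.exists_coef x hx
      obtain ⟨a, ha, hc⟩ := hA.exists_elt 1
      obtain ⟨b, hb, hd⟩ := hB.exists_elt e
      have h := Subgroup.commutator_mem_commutator ha hb
      rwa [commutatorElement_def,
        hι (((commutator_val hA hB hXYX hYXY hc hd).trans (by rw [one_mul])).trans he.symm)] at h
  have hcA : ⁅D, A⁆ = ⊥ := commute hι hD hA (by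
    rw [sub_mul, mul_sub, mul_assoc Y X X, hA.sq, mul_zero, ← mul_assoc X X Y, hA.sq, zero_mul,
      hXYX, ← mul_assoc X Y X, hXYX])
  have hcB : ⁅D, B⁆ = ⊥ := commute hι hD hB (by
    rw [sub_mul, mul_sub, mul_assoc X Y Y, hB.sq, mul_zero, ← mul_assoc Y Y X, hB.sq, zero_mul,
      hYXY, ← mul_assoc Y X Y, hYXY])
  refine ⟨hAB ▸ hDS, fun c hc x hx => ?_, hAB ▸ hca, hAB ▸ hcb⟩
  rw [hAB] at hc
  have hle : A ⊔ B ≤ Subgroup.centralizer (D : Set G) := by
    rw [Subgroup.commutator_comm, Subgroup.commutator_eq_bot_iff_le_centralizer] at hcA hcB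
    exact sup_le hcA hcB
  exact Subgroup.mem_centralizer_iff.1 (hle hx) c hc

/-- The copy of `SL₂` attached to a pair of inverse square zero elements. -/
theorem exists_hom (hι : Function.Injective ι) (hA : Root L ι X A) (hB : Root L ι Y B)
    (hXYX : X * Y * X = X) (hYXY : Y * X * Y = Y) (hX : X ≠ 0) :
    ∃ φ : Matrix.SpecialLinearGroup (Fin 2) L →* G, Function.Injective φ ∧
      φ.range = A ⊔ B ∧ (upperUnipotentSL2 L).map φ = A ∧ (lowerUnipotentSL2 L).map φ = B := by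
  have hY : Y ≠ 0 := fun h => hX (by rw [← hXYX, h, mul_zero, zero_mul])
  let ρ : Matrix.SpecialLinearGroup (Fin 2) L → R := fun M =>
    1 + (M.1 0 0 - 1) • (X * Y) + M.1 0 1 • X + M.1 1 0 • Y + (M.1 1 1 - 1) • (Y * X)
  have x1 : X * (Y * X) = X := by rw [← mul_assoc, hXYX]
  have y1 : Y * (X * Y) = Y := by rw [← mul_assoc, hYXY]
  have x2 : ∀ z, X * (Y * (X * z)) = X * z := fun z => by rw [← mul_assoc, ← mul_assoc, hXYX]
  have y2 : ∀ z, Y * (X * (Y * z)) = Y * z := fun z => by rw [← mul_assoc, ← mul_assoc, hYXY]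
  have x3 : ∀ z, X * (X * z) = 0 := fun z => by rw [← mul_assoc, hA.sq, zero_mul]
  have y3 : ∀ z, Y * (Y * z) = 0 := fun z => by rw [← mul_assoc, hB.sq, zero_mul]
  have hρmul : ∀ M N, ρ (M * N) = ρ M * ρ N := by
    intro M N
    simp only [ρ, Matrix.SpecialLinearGroup.coe_mul, Matrix.mul_apply, Fin.sum_univ_two, mul_add,
      add_mul, one_mul, mul_one, smul_mul_assoc, mul_smul_comm, smul_smul, mul_assoc, hA.sq, hB.sq,
      x1, y1, x2, y2, x3, y3, mul_zero, smul_zero, add_zero]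
    module
  have hρ1 : ρ 1 = 1 := by simp [ρ]
  let K : Subgroup (Matrix.SpecialLinearGroup (Fin 2) L) :=
    { carrier := {M | ∃ g ∈ A ⊔ B, ι g = ρ M}
      mul_mem' := fun {M N} ⟨g, hg, h⟩ ⟨g', hg', h'⟩ =>
        ⟨g * g', mul_mem hg hg', by rw [map_mul, hρmul, h, h']⟩
      one_mem' := ⟨1, one_mem _, by rw [map_one, hρ1]⟩
      inv_mem' := fun {M} ⟨g, hg, h⟩ => ⟨g⁻¹, inv_mem hg,
        left_inv_eq_right_inv (a := ι g) (by rw [← map_mul, inv_mul_cancel, map_one])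
          (by rw [h, ← hρmul, mul_inv_cancel, hρ1])⟩ }
  have hup : ∀ c, ρ (SL2Unipotent.up c) = 1 + c • X := fun c => by
    simp [ρ, SL2Unipotent.up_val]
  have hlow : ∀ c, ρ (SL2Unipotent.low c) = 1 + c • Y := fun c => by
    simp [ρ, SL2Unipotent.low_val]
  have hK : ∀ M, M ∈ K := by
    intro M
    have hle : lowerUnipotentSL2 L ⊔ upperUnipotentSL2 L ≤ K := by
      refine sup_le (fun M hM => ?_) (fun M hM => ?_)
      · obtain ⟨c, rfl⟩ := SL2Unipotent.mem_lower.1 hM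
        obtain ⟨g, hg, h⟩ := hB.exists_elt c
        exact ⟨g, Subgroup.mem_sup_right hg, h.trans (hlow c).symm⟩
      · obtain ⟨c, rfl⟩ := SL2Unipotent.mem_upper.1 hM
        obtain ⟨g, hg, h⟩ := hA.exists_elt c
        exact ⟨g, Subgroup.mem_sup_left hg, h.trans (hup c).symm⟩
    exact hle (SL2Unipotent.sup_eq_top (k := L) ▸ Subgroup.mem_top M)
  choose φ _hφA hφ using hK
  let φ' : Matrix.SpecialLinearGroup (Fin 2) L →* G :=
    MonoidHom.mk' φ fun M N => hι (by rw [map_mul, hφ, hφ, hφ, hρmul])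
  have hinj : Function.Injective φ' := by
    rw [injective_iff_map_eq_one]
    intro M hM
    have h : ρ M = 1 := by rw [← hφ M, show φ M = 1 from hM, map_one]
    have hXY0 : X * Y ≠ 0 := fun e => hX (by rw [← hXYX, e, zero_mul])
    have hYX0 : Y * X ≠ 0 := fun e => hY (by rw [← hYXY, e, zero_mul])
    have h00 : (M.1 0 0 - 1) • (X * Y) = 0 := by
      have := congrArg (fun z => X * Y * z * (X * Y)) h
      simpa [ρ, mul_add, add_mul, mul_assoc, hA.sq, hB.sq, x1, y1, x2, y2, x3, y3] using this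
    have h01 : M.1 0 1 • X = 0 := by
      have := congrArg (fun z => X * Y * z * (Y * X)) h
      simpa [ρ, mul_add, add_mul, mul_assoc, hA.sq, hB.sq, x1, y1, x2, y2, x3, y3] using this
    have h10 : M.1 1 0 • Y = 0 := by
      have := congrArg (fun z => Y * X * z * (X * Y)) h
      simpa [ρ, mul_add, add_mul, mul_assoc, hA.sq, hB.sq, x1, y1, x2, y2, x3, y3] using this
    have h11 : (M.1 1 1 - 1) • (Y * X) = 0 := by
      have := congrArg (fun z => Y * X * z * (Y * X)) h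
      simpa [ρ, mul_add, add_mul, mul_assoc, hA.sq, hB.sq, x1, y1, x2, y2, x3, y3] using this
    simp only [smul_eq_zero, hXY0, hYX0, hX, hY, or_false, sub_eq_zero] at h00 h01 h10 h11
    apply SL2Unipotent.sl_ext <;> simp [h00, h01, h10, h11]
  have hmA : (upperUnipotentSL2 L).map φ' = A := by
    apply le_antisymm
    · rintro _ ⟨M, hM, rfl⟩
      obtain ⟨c, rfl⟩ := SL2Unipotent.mem_upper.1 hM
      exact (mem_iff hι hA).2 ⟨c, (hφ _).trans (hup c)⟩
    · intro g hg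
      obtain ⟨c, hc⟩ := hA.exists_coef g hg
      exact ⟨_, SL2Unipotent.mem_upper.2 ⟨c, rfl⟩, hι (((hφ _).trans (hup c)).trans hc.symm)⟩
  have hmB : (lowerUnipotentSL2 L).map φ' = B := by
    apply le_antisymm
    · rintro _ ⟨M, hM, rfl⟩
      obtain ⟨c, rfl⟩ := SL2Unipotent.mem_lower.1 hM
      exact (mem_iff hι hB).2 ⟨c, (hφ _).trans (hlow c)⟩
    · intro g hg
      obtain ⟨c, hc⟩ := hB.exists_coef g hg
      exact ⟨_, SL2Unipotent.mem_lower.2 ⟨c, rfl⟩, hι (((hφ _).trans (hlow c)).trans hc.symm)⟩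
  refine ⟨φ', hinj, ?_, hmA, hmB⟩
  rw [MonoidHom.range_eq_map, ← SL2Unipotent.sup_eq_top, Subgroup.map_sup, hmA, hmB, sup_comm]

theorem psl2 (hι : Function.Injective ι) (hA : Root L ι X A) (hB : Root L ι Y B) {l : L}
    (hl : l ≠ 0) (h1 : X * Y * X = l • X) (h2 : Y * X * Y = l • Y) (hX : X ≠ 0) :
    IsPSL2PairOver L A B ∧ IsRankOnePair A B := by
  obtain ⟨φ, hinj, hr, hmA, hmB⟩ := exists_hom hι hA (hB.smul (inv_ne_zero hl)) (Y := l⁻¹ • Y)
    (by rw [mul_smul_comm, smul_mul_assoc, h1, smul_smul, inv_mul_cancel₀ hl, one_smul])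
    (by
      rw [smul_mul_assoc, mul_smul_comm, smul_mul_assoc, h2, smul_smul, smul_smul, mul_assoc,
        inv_mul_cancel₀ hl, mul_one]) hX
  refine ⟨⟨φ, hr, by rw [(MonoidHom.ker_eq_bot_iff φ).2 hinj]; exact bot_le, hmA, hmB⟩, ?_⟩
  rw [← hmA, ← hmB]
  exact pair_map hinj (RankOnePair_symm SL2Unipotent.isSpecialRankOnePair.1.1)

end Root

theorem exists_conjBy_of_pair (h : IsRankOnePair A B) : ∃ g, B = conjBy A g := by
  obtain ⟨⟨a, ha⟩, ha1⟩ := right_ne_bot.exists_ne_one_of_ne_bot (left_ne_bot h)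
  obtain ⟨b, -, -, he⟩ := h.cond_left a ha fun e => ha1 (Subtype.ext e)
  exact ⟨a * b⁻¹, by rw [conjBy_mul, he, conjBy_conjBy_inv]⟩

theorem isConjClass_of_connected {S : Set (Subgroup G)} (hne : S.Nonempty)
    (h : IsConnectedFamily (FAdj S) S) : IsConjClassOfSubgroups S := by
  refine ⟨hne, fun A hA B hB => ?_⟩
  have h1 := h A hA B hB
  clear hB
  induction h1 with
  | refl => exact ⟨1, (conjBy_one A).symm⟩
  | @tail P Q _ hPQ ih =>
    obtain ⟨g, rfl⟩ := ih
    obtain ⟨g', rfl⟩ := exists_conjBy_of_pair hPQ.2.2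
    exact ⟨g' * g, (conjBy_mul _ _ _).symm⟩

/-- The three cases for a pair of square zero elements. -/
def Trichotomy (L : Type*) [Field L] {R : Type*} [Ring R] [Algebra L R] (Λ : Set R) (X Y : R) :
    Prop :=
  X * Y = Y * X ∨ (∃ l : L, l ≠ 0 ∧ X * Y * X = l • X ∧ Y * X * Y = l • Y) ∨
    (X * Y * X = 0 ∧ Y * X * Y = 0 ∧ X * Y - Y * X ∈ Λ)

/-- The subgroups attached to a set of square zero elements form a set of root subgroups. -/
theorem isKRootSubgroupSet (hι : Function.Injective ι) (Λ : Set R) (S : Set (Subgroup G))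
    (hS : ∀ A, A ∈ S ↔ ∃ X ∈ Λ, Root L ι X A) (hne : ∀ X ∈ Λ, X ≠ 0)
    (hroot : ∀ X ∈ Λ, ∃ A, Root L ι X A) (hconj : ∀ X ∈ Λ, ∀ g : G, ι g * X * ι g⁻¹ ∈ Λ)
    (hgen : (⨆ A ∈ S, A) = ⊤) (htri : ∀ X ∈ Λ, ∀ Y ∈ Λ, Trichotomy L Λ X Y) :
    IsKRootSubgroupSet L S := by
  have hbot : ∀ C ∈ S, C ≠ ⊥ := fun C hC => by
    obtain ⟨X, hX, h⟩ := (hS C).1 hC
    exact h.ne_bot (hne X hX)
  have hcases : ∀ A ∈ S, ∀ B ∈ S, ⁅A, B⁆ = ⊥ ∨ (IsPSL2PairOver L A B ∧ IsRankOnePair A B) ∨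
      RootCommutatorCase S A B := by
    intro A hA B hB
    obtain ⟨X, hX, hAX⟩ := (hS A).1 hA
    obtain ⟨Y, hY, hBY⟩ := (hS B).1 hB
    rcases htri X hX Y hY with h | ⟨l, hl, h1, h2⟩ | ⟨h1, h2, h3⟩
    · exact Or.inl (hAX.commute hι hBY h)
    · exact Or.inr (Or.inl (Root.psl2 hι hAX hBY hl h1 h2 (hne X hX)))
    · obtain ⟨D, hD⟩ := hroot _ h3
      exact Or.inr (Or.inr (Root.commutatorCase hι hAX hBY h1 h2 hD ((hS D).2 ⟨_, h3, hD⟩)))
  have hcomm : ∀ A ∈ S, IsMulCommutative A := fun A hA => by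
    obtain ⟨X, _, h⟩ := (hS A).1 hA
    exact h.commutative hι
  refine ⟨⟨hcomm, hbot, hgen, fun A hA g => ?_, fun A hA B hB => ?_⟩, fun A hA B hB hAB => ?_⟩
  · obtain ⟨X, hX, h⟩ := (hS A).1 hA
    exact (hS _).2 ⟨_, hconj X hX g, h.conj g⟩
  · rcases hcases A hA B hB with h | h | h
    · exact Or.inl h
    · exact Or.inr (Or.inl h.2)
    · exact Or.inr (Or.inr h)
  · rcases hcases A hA B hB with h | h | h
    · exact absurd h (not_commute_pair hAB)
    · exact h.1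
    · exact absurd h (not_case_of_pair hbot (hcomm A hA) hAB)

/-- Without the third case the set is degenerate. -/
theorem isDegenerateRootSet (hι : Function.Injective ι) (Λ : Set R) (S : Set (Subgroup G))
    (hS : ∀ A, A ∈ S ↔ ∃ X ∈ Λ, Root L ι X A) (hne : ∀ X ∈ Λ, X ≠ 0)
    (htri : ∀ X ∈ Λ, ∀ Y ∈ Λ, X * Y = Y * X ∨
      ∃ l : L, l ≠ 0 ∧ X * Y * X = l • X ∧ Y * X * Y = l • Y) :
    IsDegenerateRootSet S := by
  intro A hA B hB hC
  have hbot : ∀ C ∈ S, C ≠ ⊥ := fun C hC => by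
    obtain ⟨X, hX, h⟩ := (hS C).1 hC
    exact h.ne_bot (hne X hX)
  obtain ⟨X, hX, hAX⟩ := (hS A).1 hA
  obtain ⟨Y, hY, hBY⟩ := (hS B).1 hB
  rcases htri X hX Y hY with h | ⟨l, hl, h1, h2⟩
  · exact hbot _ hC.1 (hAX.commute hι hBY h)
  · exact not_case_of_pair hbot (hAX.commutative hι) (Root.psl2 hι hAX hBY hl h1 h2 (hne X hX)).2 hC

/-- Connectedness of the rank one graph from pairs of opposite elements. -/
theorem isConnectedFamily (hι : Function.Injective ι) (Λ : Set R) (S : Set (Subgroup G))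
    (hS : ∀ A, A ∈ S ↔ ∃ X ∈ Λ, Root L ι X A) (hne : ∀ X ∈ Λ, X ≠ 0)
    (hroot : ∀ X ∈ Λ, ∃ A, Root L ι X A)
    (hlink : ∀ X ∈ Λ, ∀ Y ∈ Λ, ∃ Z ∈ Λ,
      (∃ l : L, l ≠ 0 ∧ X * Z * X = l • X ∧ Z * X * Z = l • Z) ∧
      (∃ l : L, l ≠ 0 ∧ Z * Y * Z = l • Z ∧ Y * Z * Y = l • Y)) :
    IsConnectedFamily (FAdj S) S := by
  intro A hA B hB
  obtain ⟨X, hX, hAX⟩ := (hS A).1 hA
  obtain ⟨Y, hY, hBY⟩ := (hS B).1 hB
  obtain ⟨Z, hZ, ⟨l, hl, h1, h2⟩, ⟨m, hm, h3, h4⟩⟩ := hlink X hX Y hY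
  obtain ⟨C, hC⟩ := hroot Z hZ
  have hCS : C ∈ S := (hS C).2 ⟨Z, hZ, hC⟩
  have h5 : FAdj S A C := ⟨hA, hCS, (Root.psl2 hι hAX hC hl h1 h2 (hne X hX)).2⟩
  have h6 : FAdj S C B := ⟨hCS, hB, (Root.psl2 hι hC hBY hm h3 h4 (hne Z hZ)).2⟩
  exact (Relation.ReflTransGen.single h5).tail h6

end CfsgLib.Perm.RootModel

namespace CfsgLib.Perm.RootModel

variable {L : Type*} [Field L] {R : Type*} [Ring R] [Algebra L R] {G : Type*} [Group G]
  {ι : G →* R}

/-- The subgroup generated by all `1 + c X`. -/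
theorem Root.closure (hι : Function.Injective ι) {X : R} (hX : X * X = 0)
    (h : ∀ c : L, ∃ g, ι g = 1 + c • X) :
    Root L ι X (Subgroup.closure {g : G | ∃ c : L, ι g = 1 + c • X}) where
  sq := hX
  exists_elt c := (h c).elim fun g hg => ⟨g, Subgroup.subset_closure ⟨c, hg⟩, hg⟩
  exists_coef g hg := by
    induction hg using Subgroup.closure_induction with
    | mem g hg => exact hg
    | one => exact ⟨0, by rw [map_one, zero_smul, add_zero]⟩
    | mul a b _ _ ha hb =>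
      obtain ⟨c, hc⟩ := ha
      obtain ⟨d, hd⟩ := hb
      refine ⟨c + d, ?_⟩
      rw [map_mul, hc, hd]
      simp only [mul_add, add_mul, one_mul, mul_one, smul_mul_assoc, mul_smul_comm, hX, smul_zero,
        add_zero]
      module
    | inv a _ ha =>
      obtain ⟨c, hc⟩ := ha
      obtain ⟨g', hg'⟩ := h (-c)
      refine ⟨-c, ?_⟩
      rw [← hg']
      have : a * g' = 1 := hι (by
        rw [map_mul, hc, hg', map_one]
        simp only [mul_add, add_mul, one_mul, mul_one, smul_mul_assoc, mul_smul_comm, hX, smul_zero,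
          add_zero]
        module)
      rw [inv_eq_of_mul_eq_one_right this]

theorem Root.eq_closure (hι : Function.Injective ι) {X : R} {A : Subgroup G} (hA : Root L ι X A) :
    A = Subgroup.closure {g : G | ∃ c : L, ι g = 1 + c • X} :=
  hA.eq_of_root hι (Root.closure hι hA.sq fun c => (hA.exists_elt c).elim fun g hg => ⟨g, hg.2⟩)

end CfsgLib.Perm.RootModel

namespace CfsgLib.Perm.RootModel

variable {L : Type*} [Field L] {R : Type*} [Ring R] [Algebra L R] {G : Type*} [Group G]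
  {ι : G →* R}

theorem Root.subgroupOf {X : R} {A H : Subgroup G} (hA : Root L ι X A) (hle : A ≤ H) :
    Root L (ι.comp H.subtype) X (A.subgroupOf H) where
  sq := hA.sq
  exists_elt c := (hA.exists_elt c).elim fun g hg => ⟨⟨g, hle hg.1⟩, hg.1, hg.2⟩
  exists_coef g hg := hA.exists_coef g hg

omit [Field L] [Ring R] in
/-- The members of a family generate the group they generate. -/
theorem iSup_subgroupOf {S : Set (Subgroup G)} {H : Subgroup G} (hH : (⨆ A ∈ S, A) = H) :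
    (⨆ A' ∈ (fun A : Subgroup G => A.subgroupOf H) '' S, A') = ⊤ := by
  apply Subgroup.map_injective H.subtype_injective
  rw [← MonoidHom.range_eq_map, Subgroup.range_subtype, iSup_image, Subgroup.map_iSup]
  conv_rhs => rw [← hH]
  refine iSup_congr fun A => ?_
  rw [Subgroup.map_iSup]
  refine iSup_congr fun hA => ?_
  rw [Subgroup.subgroupOf_map_subtype, inf_eq_left]
  rw [← hH]
  exact le_iSup₂ (f := fun (A : Subgroup G) (_ : A ∈ S) => A) A hA

end CfsgLib.Perm.RootModel
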