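import Mathlib
import Cfsg.Agent.Lib.Perm.RootModel.Core

/-! Root elements of rank one: `vecMulVec x φ`. -/

set_option autoImplicit false

namespace CfsgLib.Perm.RootModel.Dyad

open Matrix CfsgLib.Perm.RootModel

variable {K : Type*} [Field K] {ι : Type*} [Fintype ι] [DecidableEq ι]

omit [DecidableEq ι] in
theorem dyad_mul (x φ y ψ : ι → K) :
    vecMulVec x φ * vecMulVec y ψ = (φ ⬝ᵥ y) • vecMulVec x ψ := by
  rw [Matrix.vecMulVec_mul_vecMulVec]; ext i j; simp [Matrix.vecMulVec_apply]; ring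

omit [DecidableEq ι] in
theorem dyad_three (x φ y ψ : ι → K) :
    vecMulVec x φ * vecMulVec y ψ * vecMulVec x φ = ((φ ⬝ᵥ y) * (ψ ⬝ᵥ x)) • vecMulVec x φ := by
  rw [dyad_mul, smul_mul_assoc, dyad_mul, smul_smul]

omit [Fintype ι] [DecidableEq ι] in
theorem dyad_ne_zero {x φ : ι → K} (hx : x ≠ 0) (hφ : φ ≠ 0) : vecMulVec x φ ≠ 0 := by
  obtain ⟨i, hi⟩ := Function.ne_iff.1 hx
  obtain ⟨j, hj⟩ := Function.ne_iff.1 hφ
  intro h
  have := congrFun (congrFun h i) j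
  rw [Matrix.vecMulVec_apply] at this
  exact mul_ne_zero hi hj this

theorem det_one_add (x φ : ι → K) : (1 + vecMulVec x φ).det = 1 + φ ⬝ᵥ x := by
  rw [Matrix.vecMulVec_eq Unit, Matrix.det_one_add_replicateCol_mul_replicateRow]

omit [DecidableEq ι] in
theorem exists_dot_ne {φ ψ : ι → K} (hφ : φ ≠ 0) (hψ : ψ ≠ 0) :
    ∃ v, φ ⬝ᵥ v ≠ 0 ∧ ψ ⬝ᵥ v ≠ 0 := by
  classical
  obtain ⟨i, hi⟩ := Function.ne_iff.1 hφ
  obtain ⟨j, hj⟩ := Function.ne_iff.1 hψ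
  by_cases h1 : ψ ⬝ᵥ (Pi.single i 1 : ι → K) = 0
  · by_cases h2 : φ ⬝ᵥ (Pi.single j 1 : ι → K) = 0
    · refine ⟨Pi.single i 1 + Pi.single j 1, ?_, ?_⟩
      · rw [dotProduct_add, h2, add_zero]; simpa using hi
      · rw [dotProduct_add, h1, zero_add]; simpa using hj
    · exact ⟨Pi.single j 1, h2, by simpa using hj⟩
  · exact ⟨Pi.single i 1, by simpa using hi, h1⟩

omit [DecidableEq ι] in
theorem exists_perp_ne {z x : ι → K} (hz : z ≠ 0) (hx : ∀ c : K, x ≠ c • z) :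
    ∃ θ, θ ⬝ᵥ z = 0 ∧ θ ⬝ᵥ x ≠ 0 := by
  classical
  obtain ⟨i, hi⟩ := Function.ne_iff.1 hz
  by_contra h
  push Not at h
  refine hx (x i / z i) (funext fun j => ?_)
  have hi' : z i ≠ 0 := hi
  have := h (Pi.single j (z i) - Pi.single i (z j)) (by
    rw [sub_dotProduct, single_dotProduct, single_dotProduct]; ring)
  rw [sub_dotProduct, single_dotProduct, single_dotProduct] at this
  rw [Pi.smul_apply, smul_eq_mul]
  field_simp
  linear_combination this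

omit [DecidableEq ι] in
/-- A vector orthogonal to `z` which is orthogonal to neither `x` nor `y`. -/
theorem exists_perp_ne_two {z x y : ι → K} (hz : z ≠ 0) (hx : ∀ c : K, x ≠ c • z)
    (hy : ∀ c : K, y ≠ c • z) : ∃ θ, θ ⬝ᵥ z = 0 ∧ θ ⬝ᵥ x ≠ 0 ∧ θ ⬝ᵥ y ≠ 0 := by
  obtain ⟨a, ha, hax⟩ := exists_perp_ne hz hx
  obtain ⟨b, hb, hby⟩ := exists_perp_ne hz hy
  by_cases h1 : a ⬝ᵥ y = 0
  · by_cases h2 : b ⬝ᵥ x = 0
    · exact ⟨a + b, by rw [add_dotProduct, ha, hb, add_zero],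
        by rwa [add_dotProduct, h2, add_zero], by rwa [add_dotProduct, h1, zero_add]⟩
    · exact ⟨b, hb, h2, hby⟩
  · exact ⟨a, ha, hax, h1⟩

theorem trichotomy {Λ : Set (Matrix ι ι K)}
    (hΛ : ∀ x φ, x ≠ 0 → φ ≠ 0 → φ ⬝ᵥ x = 0 → vecMulVec x φ ∈ Λ) {x φ y ψ : ι → K}
    (hx : x ≠ 0) (hφ : φ ≠ 0) (hφx : φ ⬝ᵥ x = 0) (hy : y ≠ 0) (hψ : ψ ≠ 0) (hψy : ψ ⬝ᵥ y = 0) :
    Trichotomy K Λ (vecMulVec x φ) (vecMulVec y ψ) := by
  by_cases h1 : φ ⬝ᵥ y = 0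
  · by_cases h2 : ψ ⬝ᵥ x = 0
    · left; rw [dyad_mul, dyad_mul, h1, h2, zero_smul, zero_smul]
    · refine Or.inr (Or.inr ⟨?_, ?_, ?_⟩)
      · rw [dyad_three, h1, zero_mul, zero_smul]
      · rw [dyad_three, h1, mul_zero, zero_smul]
      · rw [dyad_mul, dyad_mul, h1, zero_smul, zero_sub, ← neg_smul, ← Matrix.smul_vecMulVec]
        exact hΛ _ _ (smul_ne_zero (neg_ne_zero.2 h2) hy) hφ
          (by rw [dotProduct_smul, h1, smul_zero])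
  · by_cases h2 : ψ ⬝ᵥ x = 0
    · refine Or.inr (Or.inr ⟨?_, ?_, ?_⟩)
      · rw [dyad_three, h2, mul_zero, zero_smul]
      · rw [dyad_three, h2, zero_mul, zero_smul]
      · rw [dyad_mul, dyad_mul, h2, zero_smul, sub_zero, ← Matrix.smul_vecMulVec]
        exact hΛ _ _ (smul_ne_zero h1 hx) hψ (by rw [dotProduct_smul, h2, smul_zero])
    · exact Or.inr (Or.inl ⟨_, mul_ne_zero h1 h2, dyad_three _ _ _ _,
        by rw [dyad_three, mul_comm]⟩)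

end CfsgLib.Perm.RootModel.Dyad
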