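import Mathlib
import Cfsg.Prelude.Def_Classical
import Cfsg.Agent.Lib.Perm.RootModel.Dyad

/-! Siegel root elements of the hyperbolic quadratic form. -/

set_option autoImplicit false
set_option maxHeartbeats 1000000

namespace CfsgLib.Perm.RootModel.Siegel

open Matrix CfsgLib.Perm.RootModel

variable {F : Type*} [Field F] {M : ℕ}

local notation "V" => Fin M ⊕ Fin M → F

/-- The polar vector. -/
def w (v : Fin M ⊕ Fin M → F) : Fin M ⊕ Fin M → F := fun i => v i.swap

/-- The polar form. -/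
def B (u v : Fin M ⊕ Fin M → F) : F := w v ⬝ᵥ u

/-- A singular line, given by two spanning vectors. -/
structure Line (p r : Fin M ⊕ Fin M → F) : Prop where
  li : LinearIndependent F ![p, r]
  hp : Cfsg.quadFormPlus M F p = 0
  hr : Cfsg.quadFormPlus M F r = 0
  hpr : B p r = 0

/-- The root element of a line: `v ↦ B(v,r) p - B(v,p) r`. -/
def X (p r : Fin M ⊕ Fin M → F) : Matrix (Fin M ⊕ Fin M) (Fin M ⊕ Fin M) F :=
  vecMulVec p (w r) - vecMulVec r (w p)

theorem w_add (u v : V) : w (u + v) = w u + w v := rfl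
theorem w_sub (u v : V) : w (u - v) = w u - w v := rfl
theorem w_smul (c : F) (v : V) : w (c • v) = c • w v := rfl

theorem w_ne_zero {v : V} (h : v ≠ 0) : w v ≠ 0 := fun e => h (funext fun i => by
  have := congrFun e i.swap
  simpa [w] using this)

theorem B_eq (u v : V) :
    B u v = ∑ i : Fin M, (u (.inl i) * v (.inr i) + u (.inr i) * v (.inl i)) := by
  simp only [B, w, dotProduct, Fintype.sum_sum_type, Sum.swap_inl, Sum.swap_inr,
    Finset.sum_add_distrib]
  congr 1 <;> exact Finset.sum_congr rfl fun i _ => mul_comm _ _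

theorem B_comm (u v : V) : B u v = B v u := by
  rw [B_eq, B_eq]; exact Finset.sum_congr rfl fun i _ => by ring

theorem Q_add (u v : V) :
    Cfsg.quadFormPlus M F (u + v) = Cfsg.quadFormPlus M F u + Cfsg.quadFormPlus M F v + B u v := by
  simp only [Cfsg.quadFormPlus, B_eq, ← Finset.sum_add_distrib, Pi.add_apply]
  exact Finset.sum_congr rfl fun i _ => by ring

theorem Q_smul (c : F) (v : V) :
    Cfsg.quadFormPlus M F (c • v) = c * c * Cfsg.quadFormPlus M F v := by
  simp only [Cfsg.quadFormPlus, Finset.mul_sum, Pi.smul_apply, smul_eq_mul]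
  exact Finset.sum_congr rfl fun i _ => by ring

theorem B_add (u v x : V) : B (u + v) x = B u x + B v x := dotProduct_add _ _ _
theorem B_sub (u v x : V) : B (u - v) x = B u x - B v x := dotProduct_sub _ _ _
theorem B_smul (c : F) (u x : V) : B (c • u) x = c * B u x := dotProduct_smul _ _ _
theorem B_add' (x u v : V) : B x (u + v) = B x u + B x v := add_dotProduct _ _ _
theorem B_sub' (x u v : V) : B x (u - v) = B x u - B x v := sub_dotProduct _ _ _
theorem B_smul' (c : F) (x u : V) : B x (c • u) = c * B x u := smul_dotProduct _ _ _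

theorem B_self {v : V} (h : Cfsg.quadFormPlus M F v = 0) : B v v = 0 := by
  have := Q_add v v
  rw [← two_smul F v, Q_smul, h] at this
  linear_combination -this

theorem eq_of_B {a b : V} (h : ∀ v, B v a = B v b) : a = b := by
  by_contra hne
  exact w_ne_zero (sub_ne_zero.2 hne) (dotProduct_eq _ _ fun v => by
    show B v (a - b) = 0 ⬝ᵥ v
    rw [B_sub', h, sub_self, zero_dotProduct])

theorem X_mulVec (p r v : V) : X p r *ᵥ v = B v r • p - B v p • r := by
  ext i
  simp [X, B, Matrix.sub_mulVec, Matrix.vecMulVec_mulVec]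

theorem ext_mulVec {A A' : Matrix (Fin M ⊕ Fin M) (Fin M ⊕ Fin M) F}
    (h : ∀ v, A *ᵥ v = A' *ᵥ v) : A = A' :=
  Matrix.ext_of_mulVec_single fun _ => h _

theorem X_sq {p r : V} (h : Line p r) : X p r * X p r = 0 := by
  refine ext_mulVec fun v => ?_
  rw [← mulVec_mulVec, X_mulVec, X_mulVec]
  simp only [B_sub, B_smul, h.hpr, B_comm r p, B_self h.hp, B_self h.hr, zero_mulVec, mul_zero,
    sub_self, zero_smul]

theorem X_three (p r y s : V) :
    X p r * X y s * X p r = (B p s * B r y - B p y * B r s) • X p r := by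
  refine ext_mulVec fun v => ?_
  rw [← mulVec_mulVec, ← mulVec_mulVec, X_mulVec p r v, smul_mulVec, X_mulVec p r v, mulVec_sub,
    mulVec_smul, mulVec_smul, X_mulVec y s, X_mulVec y s, X_mulVec]
  simp only [B_sub, B_smul, B_comm y r, B_comm y p, B_comm s r, B_comm s p]
  module

theorem X_ne_zero {p r : V} (h : Line p r) : X p r ≠ 0 := by
  intro e
  obtain ⟨v, hv⟩ : ∃ v, B v r ≠ 0 := by
    by_contra hc
    push Not at hc
    exact h.li.ne_zero 1 (eq_of_B (b := 0) fun v => (hc v).trans (by simp [B, w, dotProduct]))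
  have h1 := LinearIndependent.pair_iff.1 h.li (B v r) (-(B v p)) (by
    rw [neg_smul, ← sub_eq_add_neg, ← X_mulVec, e, zero_mulVec])
  exact hv h1.1

theorem X_eq_zero {p r : V} (h : ¬ LinearIndependent F ![p, r]) : X p r = 0 := by
  by_cases hp : p = 0
  · refine ext_mulVec fun v => ?_
    rw [X_mulVec, hp]; simp [B, w, dotProduct]
  · rw [LinearIndependent.pair_iff' hp] at h
    push Not at h
    obtain ⟨c, rfl⟩ := h
    refine ext_mulVec fun v => ?_
    rw [X_mulVec, B_smul', zero_mulVec]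
    module

/-- The commutator of two root elements whose Gram matrix has rank at most one. -/
theorem X_bracket {p r y s : V} {a a' b b' : F} (h1 : B p y = a * b) (h2 : B p s = a * b')
    (h3 : B r y = a' * b) (h4 : B r s = a' * b') :
    X p r * X y s - X y s * X p r = X (a' • p - a • r) (b • s - b' • y) := by
  refine ext_mulVec fun v => ?_
  rw [sub_mulVec, ← mulVec_mulVec, ← mulVec_mulVec, X_mulVec y s v, X_mulVec p r v]
  simp only [mulVec_sub, mulVec_smul, X_mulVec, B_sub', B_smul', B_comm y r, B_comm y p, B_comm s r, B_comm s p, h1, h2, h3, h4]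
  module

theorem trichotomy {Λ : Set (Matrix (Fin M ⊕ Fin M) (Fin M ⊕ Fin M) F)}
    (hΛ : ∀ p r, Line p r → X p r ∈ Λ) {p r y s : V} (h : Line p r) (h' : Line y s) :
    Trichotomy F Λ (X p r) (X y s) := by
  by_cases hd : B p s * B r y - B p y * B r s = 0
  · obtain ⟨a, a', b, b', h1, h2, h3, h4⟩ : ∃ a a' b b' : F,
        B p y = a * b ∧ B p s = a * b' ∧ B r y = a' * b ∧ B r s = a' * b' := by
      by_cases hy : B p y = 0
      · by_cases hs : B p s = 0
        · exact ⟨0, 1, B r y, B r s, by simp [hy], by simp [hs], by simp, by simp⟩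
        · refine ⟨1, B r s / B p s, B p y, B p s, by simp, by simp, ?_, by field_simp⟩
          field_simp
          linear_combination hd
      · refine ⟨1, B r y / B p y, B p y, B p s, by simp, by simp, by field_simp, ?_⟩
        field_simp
        linear_combination -hd
    have hbr := X_bracket h1 h2 h3 h4
    by_cases hli : LinearIndependent F ![a' • p - a • r, b • s - b' • y]
    · refine Or.inr (Or.inr ⟨?_, ?_, ?_⟩)
      · rw [X_three, hd, zero_smul]
      · rw [X_three, B_comm y r, B_comm s p, B_comm y p, B_comm s r,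
          show B r y * B p s - B p y * B r s = 0 by linear_combination hd, zero_smul]
      · rw [hbr]
        refine hΛ _ _ ⟨hli, ?_, ?_, ?_⟩
        · rw [sub_eq_add_neg, ← neg_smul, Q_add, Q_smul, Q_smul, B_smul, B_smul', h.hp, h.hr, h.hpr]
          ring
        · rw [sub_eq_add_neg, ← neg_smul, Q_add, Q_smul, Q_smul, B_smul, B_smul', h'.hp, h'.hr,
            B_comm s y, h'.hpr]
          ring
        · simp only [B_sub, B_sub', B_smul, B_smul', h1, h2, h3, h4]
          ring
    · left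
      rw [← sub_eq_zero, hbr, X_eq_zero hli]
  · refine Or.inr (Or.inl ⟨_, hd, X_three p r y s, ?_⟩)
    rw [X_three, B_comm y r, B_comm s p, B_comm y p, B_comm s r]
    congr 1
    ring

/-- A singular vector outside `u^⊥ ∩ (p^⊥ ∪ r^⊥)`, inside `u^⊥`. -/
theorem exists_second (hM : 3 ≤ M) {u p r : V} (hu : Cfsg.quadFormPlus M F u = 0)
    (hp : Cfsg.quadFormPlus M F p = 0) (hr : Cfsg.quadFormPlus M F r = 0)
    (hup : B u p = 0) (hur : B u r = 0) (hu0 : u ≠ 0) (hpu : ∀ c : F, p ≠ c • u)
    (hru : ∀ c : F, r ≠ c • u) :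
    ∃ z, Cfsg.quadFormPlus M F z = 0 ∧ B u z = 0 ∧ B p z ≠ 0 ∧ B r z ≠ 0 := by
  by_cases hh : B p r = 0
  · have hw : ∀ {x : V}, (∀ c : F, x ≠ c • u) → ∀ c : F, w x ≠ c • w u := fun {x} hx c e =>
      hx c (eq_of_B fun v => by rw [B, B, e, ← w_smul])
    obtain ⟨z, hzu, hzp, hzr⟩ := Dyad.exists_perp_ne_two (w_ne_zero hu0) (hw hpu) (hw hru)
    rw [dotProduct_comm] at hzu hzp hzr
    change B z u = 0 at hzu
    change B z p ≠ 0 at hzp
    change B z r ≠ 0 at hzr
    refine ⟨z + (-Cfsg.quadFormPlus M F z / B z p) • p, ?_, ?_, ?_, ?_⟩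
    · rw [Q_add, Q_smul, hp, mul_zero, add_zero, B_smul', div_mul_cancel₀ _ hzp, add_neg_cancel]
    · rw [B_add', B_smul', hup, mul_zero, add_zero, B_comm, hzu]
    · rw [B_add', B_smul', B_self hp, mul_zero, add_zero, B_comm]; exact hzp
    · rw [B_add', B_smul', B_comm r p, hh, mul_zero, add_zero, B_comm]; exact hzr
  · obtain ⟨x, hxu, hxp, hxr, hx⟩ : ∃ x, B x u = 0 ∧ B x p = 0 ∧ B x r = 0 ∧
        Cfsg.quadFormPlus M F x ≠ 0 := by
      by_contra hc
      push Not at hc
      obtain ⟨z, hz⟩ : ∃ z, B z u = 1 := by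
        obtain ⟨i, hi⟩ := Function.ne_iff.1 (w_ne_zero hu0)
        exact ⟨Pi.single i (w u i)⁻¹, by rw [B, dotProduct_single]; exact mul_inv_cancel₀ hi⟩
      let pr : V → V := fun v =>
        v - B v u • z - ((B v r - B v u * B z r) / B p r) • p
          - ((B v p - B v u * B z p) / B p r) • r
      have hpr : ∀ v, B (pr v) u = 0 ∧ B (pr v) p = 0 ∧ B (pr v) r = 0 := by
        intro v
        refine ⟨?_, ?_, ?_⟩
        · simp only [pr, B_sub, B_smul, hz, B_comm p u, B_comm r u, hup, hur]; ring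
        · simp only [pr, B_sub, B_smul, B_self hp, B_comm r p]
          field_simp
          ring
        · simp only [pr, B_sub, B_smul, B_self hr]
          field_simp
          ring
      have hU : ∀ x y, B x u = 0 → B x p = 0 → B x r = 0 → B y u = 0 → B y p = 0 → B y r = 0 →
          B x y = 0 := by
        intro x y a1 a2 a3 b1 b2 b3
        have h := hc (x + y) (by rw [B_add, a1, b1, add_zero]) (by rw [B_add, a2, b2, add_zero])
          (by rw [B_add, a3, b3, add_zero])
        rw [Q_add, hc x a1 a2 a3, hc y b1 b2 b3] at h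
        linear_combination h
      have hspan : ∀ v, v ∈ Submodule.span F (Set.range ![z, p, r, u]) := by
        intro v
        obtain ⟨c1, c2, c3⟩ := hpr v
        have hx : pr v - B (pr v) z • u = 0 := by
          have d1 : B (pr v - B (pr v) z • u) u = 0 := by
            rw [B_sub, B_smul, B_self hu, c1]; ring
          have d2 : B (pr v - B (pr v) z • u) p = 0 := by rw [B_sub, B_smul, hup, c2]; ring
          have d3 : B (pr v - B (pr v) z • u) r = 0 := by rw [B_sub, B_smul, hur, c3]; ring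
          have d4 : B (pr v - B (pr v) z • u) z = 0 := by
            rw [B_sub, B_smul, B_comm u z, hz]; ring
          refine eq_of_B fun y => ?_
          obtain ⟨e1, e2, e3⟩ := hpr y
          have hy := hU _ _ d1 d2 d3 e1 e2 e3
          simp only [pr, B_sub', B_smul'] at hy d2 d3 d4
          rw [B_comm y]
          simp only [B_eq _ (0 : V), Pi.zero_apply, mul_zero, add_zero, Finset.sum_const_zero]
          rw [d2, d3, d4] at hy
          linear_combination hy
        have : v = B v u • z + ((B v r - B v u * B z r) / B p r) • p +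
            ((B v p - B v u * B z p) / B p r) • r + B (pr v) z • u := by
          rw [← sub_eq_zero.1 hx]
          simp only [pr]
          abel
        rw [this]
        have hm : ∀ i : Fin 4, ![z, p, r, u] i ∈ Submodule.span F (Set.range ![z, p, r, u]) :=
          fun i => Submodule.subset_span ⟨i, rfl⟩
        exact add_mem (add_mem (add_mem (Submodule.smul_mem _ _ (hm 0)) (Submodule.smul_mem _ _ (hm 1)))
          (Submodule.smul_mem _ _ (hm 2))) (Submodule.smul_mem _ _ (hm 3))
      have hle := finrank_range_le_card (R := F) (M := V) ![z, p, r, u]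
      rw [Set.finrank, Submodule.eq_top_iff'.2 hspan, finrank_top, Module.finrank_fintype_fun_eq_card,
        Fintype.card_sum, Fintype.card_fin, Fintype.card_fin] at hle
      omega
    refine ⟨p + (-Cfsg.quadFormPlus M F x / B p r) • r + x, ?_, ?_, ?_, ?_⟩
    · rw [Q_add, Q_add, Q_smul, hp, hr, B_smul', B_add, B_smul, B_comm p x, B_comm r x, hxp, hxr,
        div_mul_cancel₀ _ hh]
      ring
    · rw [B_add', B_add', B_smul', hup, hur, B_comm u x, hxu]; ring
    · rw [B_add', B_add', B_smul', B_self hp, B_comm p x, hxp, zero_add, add_zero,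
        div_mul_cancel₀ _ hh]
      exact neg_ne_zero.2 hx
    · rw [B_add', B_add', B_smul', B_self hr, B_comm r x, hxr, mul_zero, add_zero, add_zero,
        B_comm]
      exact hh

/-- Two singular lines have a common opposite one. -/
theorem exists_opposite (hM : 3 ≤ M) {p r y s : V} (h : Line p r) (h' : Line y s) :
    ∃ u v, Line u v ∧ B p v * B r u - B p u * B r v ≠ 0 ∧
      B y v * B s u - B y u * B s v ≠ 0 := by
  obtain ⟨y', hy', hy'0, hQy', hpy'⟩ : ∃ y', (∃ c d : F, y' = c • y + d • s) ∧ y' ≠ 0 ∧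
      Cfsg.quadFormPlus M F y' = 0 ∧ B p y' = 0 := by
    have hQ : ∀ c d : F, Cfsg.quadFormPlus M F (c • y + d • s) = 0 := fun c d => by
      rw [Q_add, Q_smul, Q_smul, B_smul, B_smul', h'.hp, h'.hr, h'.hpr]; ring
    by_cases h0 : B p y = 0
    · exact ⟨y, ⟨1, 0, by simp⟩, h'.li.ne_zero 0, h'.hp, h0⟩
    · refine ⟨_, ⟨B p s, -(B p y), rfl⟩, fun e => h0 ?_, hQ _ _, by
        rw [B_add', B_smul', B_smul']; ring⟩
      exact neg_eq_zero.1 (LinearIndependent.pair_iff.1 h'.li _ _ e).2
  obtain ⟨x, hx1, hx2⟩ := Dyad.exists_dot_ne (w_ne_zero (h.li.ne_zero 0)) (w_ne_zero hy'0)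
  change B x p ≠ 0 at hx1
  change B x y' ≠ 0 at hx2
  obtain ⟨u, hu, hup, huy⟩ : ∃ u, Cfsg.quadFormPlus M F u = 0 ∧ B u p ≠ 0 ∧ B u y' ≠ 0 := by
    refine ⟨x + (-Cfsg.quadFormPlus M F x / B x p) • p, ?_, ?_, ?_⟩
    · rw [Q_add, Q_smul, h.hp, mul_zero, add_zero, B_smul', div_mul_cancel₀ _ hx1, add_neg_cancel]
    · rw [B_add, B_smul, B_self h.hp, mul_zero, add_zero]; exact hx1
    · rw [B_add, B_smul, hpy', mul_zero, add_zero]; exact hx2
  have hu0 : u ≠ 0 := fun e => hup (by rw [e]; simp [B])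
  have key : ∀ {a b : V}, Line a b → (∃ c d : F, B u (c • a + d • b) ≠ 0) →
      Cfsg.quadFormPlus M F (X a b *ᵥ u) = 0 ∧ B u (X a b *ᵥ u) = 0 ∧
        ∀ c : F, X a b *ᵥ u ≠ c • u := by
    intro a b hl ⟨c, d, hcd⟩
    rw [X_mulVec, sub_eq_add_neg, ← neg_smul]
    refine ⟨by rw [Q_add, Q_smul, Q_smul, B_smul, B_smul', hl.hp, hl.hr, hl.hpr]; ring,
      by rw [B_add', B_smul', B_smul']; ring, fun e he => ?_⟩
    by_cases he0 : e = 0
    · rw [he0, zero_smul] at he
      obtain ⟨e1, e2⟩ := LinearIndependent.pair_iff.1 hl.li _ _ he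
      refine hcd ?_
      rw [B_add', B_smul', B_smul', e1, neg_eq_zero.1 e2]; ring
    · have hueq : u = e⁻¹ • (B u b • a + (-B u a) • b) := by
        rw [he, smul_smul, inv_mul_cancel₀ he0, one_smul]
      refine hcd ?_
      rw [hueq, B_smul, B_add, B_smul, B_smul]
      simp only [B_add', B_smul', hl.hpr, B_comm b a, B_self hl.hp, B_self hl.hr]
      ring
  obtain ⟨hP, huP, hPu⟩ := key h ⟨1, 0, by simpa using hup⟩
  obtain ⟨c, d, rfl⟩ := hy'
  obtain ⟨hR, huR, hRu⟩ := key h' ⟨c, d, huy⟩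
  obtain ⟨v, hv, huv, hPv, hRv⟩ := exists_second hM hu hP hR huP huR hu0 hPu hRu
  refine ⟨u, v, ⟨?_, hu, hv, huv⟩, ?_, ?_⟩
  · rw [LinearIndependent.pair_iff' hu0]
    intro e he
    rw [← he, B_smul', B_comm, huP, mul_zero] at hPv
    exact hPv rfl
  · rw [X_mulVec, B_sub, B_smul, B_smul] at hPv
    rw [B_comm r u, B_comm p u]
    intro e; exact hPv (by linear_combination e)
  · rw [X_mulVec, B_sub, B_smul, B_smul] at hRv
    rw [B_comm s u, B_comm y u]
    intro e; exact hRv (by linear_combination e)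

theorem exists_dual {p r : V} (h : LinearIndependent F ![p, r]) :
    ∃ z, B z p = 1 ∧ B z r = 0 := by
  have hw : ∀ c : F, w p ≠ c • w r := fun c e => by
    have hpc : p = c • r := eq_of_B fun v => by rw [B, B, e, ← w_smul]
    have := LinearIndependent.pair_iff.1 h 1 (-c) (by rw [one_smul, hpc, neg_smul, add_neg_cancel])
    exact one_ne_zero this.1
  obtain ⟨θ, h1, h2⟩ := Dyad.exists_perp_ne (w_ne_zero (h.ne_zero 1)) hw
  rw [dotProduct_comm] at h1 h2
  change B θ r = 0 at h1
  change B θ p ≠ 0 at h2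
  exact ⟨(B θ p)⁻¹ • θ, by rw [B_smul, inv_mul_cancel₀ h2], by rw [B_smul, h1, mul_zero]⟩

/-- An isometry fixing the orthogonal of a singular line is a root element of it. -/
theorem eq_root_of_fix {p r : V} (h : Line p r) (g : Matrix (Fin M ⊕ Fin M) (Fin M ⊕ Fin M) F)
    (hg : ∀ v, Cfsg.quadFormPlus M F (g *ᵥ v) = Cfsg.quadFormPlus M F v)
    (hfix : ∀ v, B v p = 0 → B v r = 0 → g *ᵥ v = v) : ∃ c : F, g = 1 + c • X p r := by
  have hB : ∀ u v, B (g *ᵥ u) (g *ᵥ v) = B u v := by
    intro u v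
    have h1 := Q_add (g *ᵥ u) (g *ᵥ v)
    rw [← mulVec_add, hg, hg, hg, Q_add] at h1
    linear_combination -h1
  obtain ⟨p', hp1, hp2⟩ := exists_dual h.li
  have hli : LinearIndependent F ![r, p] := LinearIndependent.pair_iff.2 fun s t hst =>
    (LinearIndependent.pair_iff.1 h.li t s (by rwa [add_comm])).symm
  obtain ⟨r', hr1, hr2⟩ := exists_dual hli
  have hdec : ∀ v, B (v - B v p • p' - B v r • r') p = 0 ∧ B (v - B v p • p' - B v r • r') r = 0 :=
    fun v => ⟨by simp only [B_sub, B_smul, hp1, hr2]; ring,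
      by simp only [B_sub, B_smul, hp2, hr1]; ring⟩
  have hgv : ∀ v, g *ᵥ v = v + B v p • (g *ᵥ p' - p') + B v r • (g *ᵥ r' - r') := by
    intro v
    have h1 := hfix _ (hdec v).1 (hdec v).2
    rw [mulVec_sub, mulVec_sub, mulVec_smul, mulVec_smul, sub_eq_iff_eq_add, sub_eq_iff_eq_add]
      at h1
    rw [h1]
    module
  have hspan : ∀ x : V, g *ᵥ x - x = B p' (g *ᵥ x - x) • p + B r' (g *ᵥ x - x) • r := by
    intro x
    have hperp : ∀ v, B v p = 0 → B v r = 0 → B v (g *ᵥ x - x) = 0 := by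
      intro v a1 a2
      have := hB v x
      rw [hfix v a1 a2] at this
      rw [B_sub', this, sub_self]
    refine eq_of_B fun v => ?_
    have h1 := hperp _ (hdec v).1 (hdec v).2
    simp only [B_sub, B_smul] at h1
    simp only [B_add', B_smul']
    linear_combination h1
  have hQ : ∀ x, B x (g *ᵥ x - x) = 0 := by
    intro x
    have h1 := hg x
    rw [show g *ᵥ x = x + (g *ᵥ x - x) by abel, Q_add] at h1
    have h2 : Cfsg.quadFormPlus M F (g *ᵥ x - x) = 0 := by
      rw [hspan x, Q_add, Q_smul, Q_smul, B_smul, B_smul', h.hp, h.hr, h.hpr]; ring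
    linear_combination h1 - h2
  obtain ⟨γ, hγ⟩ : ∃ γ, B p' (g *ᵥ r' - r') = γ := ⟨_, rfl⟩
  have hp' : g *ᵥ p' - p' = (-γ) • r := by
    have h1 := hQ p'
    have h3 := hQ (p' + r')
    rw [mulVec_add, show g *ᵥ p' + g *ᵥ r' - (p' + r') = (g *ᵥ p' - p') + (g *ᵥ r' - r') by abel,
      B_add, B_add', B_add', hQ p', hQ r', hγ] at h3
    conv_lhs => rw [hspan p', h1, zero_smul, zero_add]
    congr 1
    linear_combination h3
  have hr' : g *ᵥ r' - r' = γ • p := by
    conv_lhs => rw [hspan r', hQ r', zero_smul, add_zero, hγ]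
  refine ⟨γ, ext_mulVec fun v => ?_⟩
  rw [hgv, hp', hr', add_mulVec, one_mulVec, smul_mulVec, X_mulVec]
  module

theorem root_preserves {p r : V} (h : Line p r) (c : F) (v : V) :
    Cfsg.quadFormPlus M F ((1 + c • X p r) *ᵥ v) = Cfsg.quadFormPlus M F v := by
  rw [add_mulVec, one_mulVec, smul_mulVec, X_mulVec, sub_eq_add_neg, ← neg_smul, Q_add, Q_smul,
    Q_add, Q_smul, Q_smul]
  simp only [B_smul', B_add', B_smul, h.hp, h.hr, h.hpr]
  ring

theorem root_fix {p r : V} (c : F) {v : V} (h1 : B v p = 0) (h2 : B v r = 0) :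
    (1 + c • X p r) *ᵥ v = v := by
  rw [add_mulVec, one_mulVec, smul_mulVec, X_mulVec, h1, h2]
  simp

theorem conj_eq {p r : V} (g g' : Matrix (Fin M ⊕ Fin M) (Fin M ⊕ Fin M) F) (hgg' : g * g' = 1)
    (hB : ∀ u v, B (g *ᵥ u) (g *ᵥ v) = B u v) : g * X p r * g' = X (g *ᵥ p) (g *ᵥ r) := by
  refine ext_mulVec fun v => ?_
  rw [← mulVec_mulVec, ← mulVec_mulVec, X_mulVec, X_mulVec, mulVec_sub, mulVec_smul, mulVec_smul,
    ← hB (g' *ᵥ v) r, ← hB (g' *ᵥ v) p, mulVec_mulVec, hgg', one_mulVec]

end CfsgLib.Perm.RootModel.Siegel
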